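import Mathlib.FieldTheory.Perfect
import Mathlib.Algebra.CharP.Algebra
import Mathlib.RingTheory.Ideal.Operations
import Mathlib.Algebra.Module.Projective
import Mathlib.Algebra.MonoidAlgebra.Basic
import Mathlib.LinearAlgebra.TensorProduct.RightExactness
import Mathlib.RingTheory.TensorProduct.Free
import Mathlib.RingTheory.Flat.Basic

/-!
# Radical quotients of complexes of projective modules over perfect rings
-/

universe u

open TensorProduct

namespace Groth.Agent.H84PerfTor

theorem frob_add' {T : Type*} [CommRing T] (p : ℕ) [Fact p.Prime] (hT : (p : T) = 0) (x y : T) :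
    (x + y) ^ p = x ^ p + y ^ p := by
  rcases subsingleton_or_nontrivial T with h | h
  · exact Subsingleton.elim _ _
  · have : CharP T p := (CharP.charP_iff_prime_eq_zero Fact.out).2 hT
    exact add_pow_char x y p

section Cycle

variable {R : Type u} [CommRing R]

/-- `M` has no new torsion modulo radical ideals. -/
def RootClosed (p : ℕ) (M : Type*) [AddCommGroup M] [Module R M] : Prop :=
  ∀ (J : Ideal R), J.IsRadical → ∀ (f : R) (m : M),
    f ^ p • m ∈ (J • ⊤ : Submodule R M) → f • m ∈ (J • ⊤ : Submodule R M)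

theorem rootClosed_of_projective (p : ℕ) {M : Type*} [AddCommGroup M] [Module R M] [Module.Projective R M] :
    RootClosed (R := R) p M := by
  intro J hJ f m hm
  obtain ⟨s, hs⟩ := Module.projective_def.1 (inferInstance : Module.Projective R M)
  have hall : ∀ x ∈ (J • ⊤ : Submodule R M), ∀ i, (s x) i ∈ J := by
    intro x hx i
    induction hx using Submodule.smul_induction_on' with
    | smul r hr n _ =>
      rw [map_smul, Finsupp.smul_apply, smul_eq_mul]; exact J.mul_mem_right _ hr
    | add a _ b _ ha hb =>
      rw [map_add, Finsupp.add_apply]; exact add_mem ha hb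
  have hcoef : ∀ i, f * (s m) i ∈ J := fun i => hJ ⟨p + 1, by
    have h := hall _ hm i
    rw [map_smul, Finsupp.smul_apply, smul_eq_mul] at h
    rw [mul_pow, pow_succ, show f ^ p * f * (s m i) ^ (p + 1) = f ^ p * (s m) i * (f * (s m i) ^ p) by ring]
    exact J.mul_mem_right _ h⟩
  have hm' : f • m = Finsupp.linearCombination R id (s (f • m)) := (hs (f • m)).symm
  rw [hm', Finsupp.linearCombination_apply]
  refine Submodule.sum_mem _ fun i _ => ?_
  refine Submodule.smul_mem_smul ?_ trivial
  rw [map_smul, Finsupp.smul_apply, smul_eq_mul]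
  exact hcoef i

theorem rootClosed_algebra (p : ℕ) [Fact p.Prime] (T : Type*) [CommRing T] [Algebra R T] [IsReduced T]
    (hp : (p : T) = 0) (hR : Function.Surjective fun x : R => x ^ p) (hT : Function.Surjective fun x : T => x ^ p) :
    RootClosed (R := R) p T := by
  intro J hJ f m hm
  have hkey : ∀ y ∈ (J • ⊤ : Submodule R T), ∃ s ∈ (J • ⊤ : Submodule R T), s ^ p = y := by
    intro y hy
    induction hy using Submodule.smul_induction_on' with
    | smul r hr n _ =>
      obtain ⟨r', rfl⟩ := hR r
      obtain ⟨n', rfl⟩ := hT n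
      exact ⟨r' • n', Submodule.smul_mem_smul (hJ ⟨p, hr⟩) trivial, smul_pow _ _ _⟩
    | add a _ b _ ha hb =>
      obtain ⟨s, hs, rfl⟩ := ha
      obtain ⟨t, ht, rfl⟩ := hb
      exact ⟨s + t, add_mem hs ht, frob_add' p hp s t⟩
  have hsm : ∀ (t : T), ∀ y ∈ (J • ⊤ : Submodule R T), t * y ∈ (J • ⊤ : Submodule R T) := by
    intro t y hy
    induction hy using Submodule.smul_induction_on' with
    | smul r hr n _ =>
      rw [mul_smul_comm]; exact Submodule.smul_mem_smul hr trivial
    | add a _ b _ ha hb =>
      rw [mul_add]; exact add_mem ha hb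
  obtain ⟨n, hn⟩ : ∃ n, p = n + 1 := ⟨p - 1, (Nat.sub_add_cancel (Fact.out : p.Prime).one_le).symm⟩
  obtain ⟨s, hs, hs'⟩ := hkey ((f • m) ^ p) (by
    have := hsm (m ^ n) _ hm
    rw [mul_smul_comm, ← pow_succ, ← hn] at this
    rwa [smul_pow])
  have h0 : (f • m - s) ^ p = 0 := by
    have := frob_add' p hp (f • m - s) s
    rw [sub_add_cancel, hs'] at this
    exact right_eq_add.1 this
  rw [sub_eq_zero.1 (IsNilpotent.eq_zero ⟨p, h0⟩)]
  exact hs

variable (p : ℕ) [Fact p.Prime] [CharP R p] [PerfectRing R p]
  {Q : ℕ → Type u} [∀ i, AddCommGroup (Q i)] [∀ i, Module R (Q i)] [∀ i, Module.Projective R (Q i)]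
  {M : Type u} [AddCommGroup M] [Module R M]
  (d : ∀ i, Q (i + 1) →ₗ[R] Q i) (π : Q 0 →ₗ[R] M)

theorem exists_boundary (hd : ∀ i z, d i (d (i + 1) z) = 0) (hπ : Function.Surjective π)
    (hex : ∀ i z, d i z = 0 → ∃ u, d (i + 1) u = z) (hex0 : ∀ z, π z = 0 → ∃ u, d 0 u = z)
    (hπd : ∀ z, π (d 0 z) = 0) (hM : RootClosed (R := R) p M)
    (J : Ideal R) (hJ : J.IsRadical) (i : ℕ) (z : Q (i + 1)) (hz : d i z ∈ (J • ⊤ : Submodule R (Q i))) :
    ∃ u, z - d (i + 1) u ∈ (J • ⊤ : Submodule R (Q (i + 1))) := by
  classical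
  have hfin : ∀ S : Finset R, ∀ (i : ℕ) (z : Q (i + 1)),
      d i z ∈ ((Ideal.span (S : Set R)).radical • ⊤ : Submodule R (Q i)) →
        ∃ u, z - d (i + 1) u ∈ ((Ideal.span (S : Set R)).radical • ⊤ : Submodule R (Q (i + 1))) := by
    intro S
    induction S using Finset.induction with
    | empty =>
      intro i z hz
      have hred : IsReduced R := by
        refine ⟨fun x ⟨n, hn⟩ => ?_⟩
        have h : x ^ p ^ n = 0 := pow_eq_zero_of_le (Nat.lt_pow_self (Fact.out : p.Prime).one_lt).le hn
        rw [← iterateFrobenius_def] at h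
        exact (map_eq_zero_iff _ (bijective_iterateFrobenius R p n).injective).1 h
      have h0 : (Ideal.span ((∅ : Finset R) : Set R)).radical = ⊥ := by
        rw [Finset.coe_empty, Ideal.span_empty]; exact nilradical_eq_zero R
      rw [h0, Submodule.bot_smul, Submodule.mem_bot] at hz
      obtain ⟨u, hu⟩ := hex i z hz
      exact ⟨u, by rw [hu, sub_self]; exact zero_mem _⟩
    | insert f S _ ih =>
      intro i z hz
      set I := (Ideal.span (S : Set R)).radical with hI
      set I' := (Ideal.span ((insert f S : Finset R) : Set R)).radical with hI'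
      have hII' : I ≤ I' := Ideal.radical_mono (Ideal.span_mono (by simp))
      have hIr : I.IsRadical := Ideal.radical_isRadical _
      let σ := (frobeniusEquiv R p).symm
      let g : ℕ → R := fun n => σ^[n] f
      have hg : ∀ n, g (n + 1) ^ p = g n := fun n => by
        simp only [g, Function.iterate_succ_apply']
        exact frobeniusEquiv_symm_pow_p R p _
      have hgle : ∀ n m, n ≤ m → ∃ c, g n = c * g m := by
        intro n m h
        induction h with
        | refl => exact ⟨1, (one_mul _).symm⟩
        | @step m _ ih =>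
          obtain ⟨c, hc⟩ := ih
          refine ⟨c * g (m + 1) ^ (p - 1), ?_⟩
          rw [hc, mul_assoc, ← pow_succ, Nat.sub_add_cancel (Fact.out : p.Prime).one_le, hg]
      have hgI' : ∀ n, g n ∈ I' := by
        intro n
        induction n with
        | zero => exact Ideal.le_radical (Ideal.subset_span (by simp [g]))
        | succ n ih => exact (Ideal.radical_isRadical _) ⟨p, by rw [hg]; exact ih⟩
      have hpow : ∀ (k : ℕ) (b : R), (σ^[k] b) ^ p ^ k = b := fun k => by
        induction k with
        | zero => simp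
        | succ k ih => intro b; rw [Function.iterate_succ_apply', pow_succ', pow_mul, frobeniusEquiv_symm_pow_p, ih]
      have hroot : ∀ a ∈ I', ∃ n c, a - c * g n ∈ I := by
        rintro a ⟨m, hm⟩
        have hm' := Ideal.pow_mem_of_pow_mem _ hm (Nat.lt_pow_self (n := m) (Fact.out : p.Prime).one_lt).le
        rw [Finset.coe_insert, Ideal.span_insert, Submodule.mem_sup] at hm'
        obtain ⟨x, hx, y, hy, hxy⟩ := hm'
        obtain ⟨c, rfl⟩ := Ideal.mem_span_singleton'.1 hx
        refine ⟨m, σ^[m] c, ⟨p ^ m, ?_⟩⟩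
        rw [sub_pow_char_pow, mul_pow, hpow, show (g m) ^ p ^ m = f from hpow m f, ← hxy, add_sub_cancel_left]
        exact hy
      have hmem : ∀ v ∈ (I' • ⊤ : Submodule R (Q i)), ∃ n w, v - g n • w ∈ (I • ⊤ : Submodule R (Q i)) := by
        intro v hv
        induction hv using Submodule.smul_induction_on' with
        | smul r hr q _ =>
          obtain ⟨n, c, hc⟩ := hroot r hr
          exact ⟨n, c • q, by rw [smul_smul, mul_comm, ← sub_smul]; exact Submodule.smul_mem_smul hc trivial⟩
        | add a _ b _ ha hb =>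
          obtain ⟨n, w, hw⟩ := ha
          obtain ⟨m, v, hv⟩ := hb
          obtain ⟨c, hc⟩ := hgle n (max n m) (le_max_left _ _)
          obtain ⟨e, he⟩ := hgle m (max n m) (le_max_right _ _)
          refine ⟨max n m, c • w + e • v, ?_⟩
          have := add_mem hw hv
          rw [hc, he] at this
          convert this using 1
          simp only [smul_add, smul_smul, mul_comm (g _)]
          abel
      obtain ⟨n, w, hw⟩ := hmem _ hz
      have hdI : ∀ (j : ℕ), ∀ q ∈ (I • ⊤ : Submodule R (Q (j + 1))), d j q ∈ (I • ⊤ : Submodule R (Q j)) := fun j q hq =>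
        Submodule.map_le_iff_le_comap.1 (le_of_eq_of_le (Submodule.map_smul'' _ _ _) (Submodule.smul_mono le_rfl le_top)) hq
      obtain ⟨v, hv⟩ : ∃ v, g (n + 1) • w - d i v ∈ (I • ⊤ : Submodule R (Q i)) := by
        cases i with
        | zero =>
          have hπI : ∀ q ∈ (I • ⊤ : Submodule R (Q 0)), π q ∈ (I • ⊤ : Submodule R M) := fun q hq =>
            Submodule.map_le_iff_le_comap.1 (le_of_eq_of_le (Submodule.map_smul'' _ _ _) (Submodule.smul_mono le_rfl le_top)) hq
          have h1 : g (n + 1) ^ p • π w ∈ (I • ⊤ : Submodule R M) := by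
            rw [hg, ← map_smul, ← neg_mem_iff]
            simpa [hπd] using hπI _ hw
          have h2 := hM I hIr _ _ h1
          rw [show (⊤ : Submodule R M) = Submodule.map π ⊤ from (Submodule.map_top π).symm ▸ (LinearMap.range_eq_top.2 hπ).symm,
            ← Submodule.map_smul''] at h2
          obtain ⟨q, hq, hqe⟩ := h2
          obtain ⟨v, hv⟩ := hex0 (g (n + 1) • w - q) (by rw [map_sub, map_smul, hqe, sub_self])
          exact ⟨v, by rw [hv, sub_sub_cancel]; exact hq⟩
        | succ j =>
          have h1 : g (n + 1) ^ p • d j w ∈ (I • ⊤ : Submodule R (Q j)) := by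
            rw [hg, ← map_smul, ← neg_mem_iff]
            simpa [hd] using hdI j _ hw
          have h2 := rootClosed_of_projective p I hIr _ _ h1
          rw [← map_smul] at h2
          exact ih j _ h2
      obtain ⟨u, hu⟩ := ih i (z - g (n + 1) ^ (p - 1) • v) (by
        have h := add_mem hw (Submodule.smul_mem _ (g (n + 1) ^ (p - 1)) hv)
        have hgn : g (n + 1) ^ (p - 1) • g (n + 1) • w = g n • w := by
          rw [smul_smul, ← pow_succ, Nat.sub_add_cancel (Fact.out : p.Prime).one_le, hg]
        rw [smul_sub, hgn, sub_add_sub_cancel] at h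
        rwa [map_sub, map_smul])
      refine ⟨u, ?_⟩
      have hle : (I • ⊤ : Submodule R (Q (i + 1))) ≤ I' • ⊤ := Submodule.smul_mono hII' le_rfl
      have hgv : g (n + 1) ^ (p - 1) • v ∈ (I' • ⊤ : Submodule R (Q (i + 1))) :=
        Submodule.smul_mem_smul (Ideal.pow_mem_of_mem _ (hgI' _) _ (Nat.sub_pos_of_lt (Fact.out : p.Prime).one_lt)) trivial
      have := add_mem (hle hu) hgv
      convert this using 1
      abel
  obtain ⟨S, hS, hzS⟩ : ∃ S : Finset R, (∀ r ∈ S, r ∈ J) ∧
      d i z ∈ ((Ideal.span (S : Set R)).radical • ⊤ : Submodule R (Q i)) := by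
    suffices h : ∀ v ∈ (J • ⊤ : Submodule R (Q i)), ∃ S : Finset R, (∀ r ∈ S, r ∈ J) ∧
        v ∈ ((Ideal.span (S : Set R)).radical • ⊤ : Submodule R (Q i)) from h _ hz
    intro v hv
    induction hv using Submodule.smul_induction_on' with
    | smul r hr q _ =>
      exact ⟨{r}, by simpa using hr, Submodule.smul_mem_smul (Ideal.le_radical (Ideal.subset_span (by simp))) trivial⟩
    | add a _ b _ ha hb =>
      obtain ⟨S, hS, ha⟩ := ha
      obtain ⟨T, hT, hb⟩ := hb
      refine ⟨S ∪ T, fun r hr => (Finset.mem_union.1 hr).elim (hS r) (hT r), add_mem ?_ ?_⟩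
      · exact Submodule.smul_mono (Ideal.radical_mono (Ideal.span_mono (by simp))) le_rfl ha
      · exact Submodule.smul_mono (Ideal.radical_mono (Ideal.span_mono (by simp))) le_rfl hb
  obtain ⟨u, hu⟩ := hfin S i z hzS
  exact ⟨u, Submodule.smul_mono ((Ideal.radical_mono (Ideal.span_le.2 fun r hr => hS r hr)).trans hJ) le_rfl hu⟩

end Cycle

section Tensor

variable (p : ℕ) [Fact p.Prime] (A B : Type u) [CommRing A] [CharP A p] [CommRing B]

theorem monoidAlgebra_perfect (hA : Function.Bijective fun a : A => a ^ p) (hB : Function.Bijective fun b : B => b ^ p) :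
    PerfectRing (MonoidAlgebra A B) p := by
  have hp : ((p : ℕ) : MonoidAlgebra A B) = 0 := by
    rw [← map_natCast (algebraMap A (MonoidAlgebra A B)) p, CharP.cast_eq_zero, map_zero]
  have : CharP (MonoidAlgebra A B) p := charP_of_injective_algebraMap (R := A) (A := MonoidAlgebra A B) (FaithfulSMul.algebraMap_injective A _) p
  have hcoef : ∀ (x : MonoidAlgebra A B) (b : B), (x ^ p).coeff (b ^ p) = x.coeff b ^ p := by
    intro x
    induction x using MonoidAlgebra.induction_linear with
    | zero => intro b; simp [zero_pow (Fact.out : p.Prime).ne_zero]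
    | add x y hx hy =>
      intro b
      rw [frob_add' p hp]
      simp only [MonoidAlgebra.coeff_add, Finsupp.add_apply, hx b, hy b]
      exact (add_pow_char _ _ p).symm
    | single c a =>
      intro b
      classical
      rw [MonoidAlgebra.single_pow, MonoidAlgebra.coeff_single, MonoidAlgebra.coeff_single, Finsupp.single_apply,
        Finsupp.single_apply]
      by_cases h : c = b
      · rw [if_pos h, if_pos (congrArg (· ^ p) h)]
      · rw [if_neg h, if_neg (fun e => h (hB.1 e)), zero_pow (Fact.out : p.Prime).ne_zero]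
  refine ⟨fun x y hxy => ?_, fun x => ?_⟩
  · refine MonoidAlgebra.ext (Finsupp.ext fun b => hA.1 ?_)
    change x.coeff b ^ p = y.coeff b ^ p
    rw [← hcoef, ← hcoef]
    exact congrArg (fun z : MonoidAlgebra A B => z.coeff (b ^ p)) hxy
  · induction x using MonoidAlgebra.induction_linear with
    | zero => exact ⟨0, map_zero (frobenius _ p)⟩
    | add x y hx hy =>
      obtain ⟨a, rfl⟩ := hx; obtain ⟨b, rfl⟩ := hy; exact ⟨a + b, map_add (frobenius _ p) a b⟩
    | single c a =>
      obtain ⟨c', rfl⟩ := hB.2 c
      obtain ⟨a', rfl⟩ := hA.2 a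
      exact ⟨MonoidAlgebra.single c' a', MonoidAlgebra.single_pow _ _ _⟩

variable (C : Type u) [CommRing C] [Algebra A C]

theorem tensor_perfect (hA : Function.Bijective fun a : A => a ^ p) (hB : Function.Bijective fun b : B => b ^ p)
    (hC : Function.Bijective fun c : C => c ^ p) :
    IsReduced (MonoidAlgebra A B ⊗[A] C) ∧
      Function.Surjective fun x : MonoidAlgebra A B ⊗[A] C => x ^ p := by
  classical
  have hp : ((p : ℕ) : MonoidAlgebra A B ⊗[A] C) = 0 := by
    rw [← map_natCast (algebraMap A _) p, CharP.cast_eq_zero, map_zero]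
  have hpC : (p : C) = 0 := by rw [← map_natCast (algebraMap A C) p, CharP.cast_eq_zero, map_zero]
  have hzero : (0 : MonoidAlgebra A B ⊗[A] C) ^ p = 0 := zero_pow (Fact.out : p.Prime).ne_zero
  refine ⟨?_, fun x => ?_⟩
  swap
  · induction x using TensorProduct.induction_on with
    | zero => exact ⟨0, hzero⟩
    | tmul r c =>
      obtain ⟨r', rfl⟩ := (monoidAlgebra_perfect p A B hA hB).bijective_frobenius.2 r
      obtain ⟨c', rfl⟩ := hC.2 c
      exact ⟨r' ⊗ₜ c', Algebra.TensorProduct.tmul_pow _ _ _⟩
    | add x y hx hy =>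
      obtain ⟨a, rfl⟩ := hx; obtain ⟨b, rfl⟩ := hy; exact ⟨a + b, frob_add' p hp a b⟩
  let e : MonoidAlgebra A B ⊗[A] C ≃ₗ[A] (B →₀ C) :=
    (TensorProduct.congr (MonoidAlgebra.coeffLinearEquiv (R := A) (S := A) (M := B)) (LinearEquiv.refl A C)).trans
      (finsuppScalarLeft A C B)
  have he : ∀ (b' : B) (a : A) (c : C) (b : B),
      e (MonoidAlgebra.single b' a ⊗ₜ c) b = if b' = b then a • c else 0 := by
    intro b' a c b
    simp only [e, LinearEquiv.trans_apply, TensorProduct.congr_tmul, LinearEquiv.refl_apply]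
    rw [finsuppScalarLeft_apply_tmul_apply]
    simp [Finsupp.single_apply, ite_smul]
  have hcoef : ∀ x b, e (x ^ p) (b ^ p) = e x b ^ p := by
    intro x
    induction x using TensorProduct.induction_on with
    | zero => intro b; simp [zero_pow (Fact.out : p.Prime).ne_zero]
    | add x y hx hy => intro b; rw [frob_add' p hp, map_add, map_add, Finsupp.add_apply, Finsupp.add_apply, hx, hy,
        frob_add' p hpC]
    | tmul r c =>
      induction r using MonoidAlgebra.induction_linear with
      | zero => intro b; simp [zero_pow (Fact.out : p.Prime).ne_zero]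
      | add r s hr hs => intro b; rw [add_tmul, frob_add' p hp, map_add, map_add, Finsupp.add_apply, Finsupp.add_apply,
          hr, hs, frob_add' p hpC]
      | single b' a =>
        intro b
        rw [Algebra.TensorProduct.tmul_pow, MonoidAlgebra.single_pow, he, he]
        by_cases h : b' = b
        · rw [if_pos h, if_pos (congrArg (· ^ p) h), smul_pow]
        · rw [if_neg h, if_neg (fun e => h (hB.1 e)), zero_pow (Fact.out : p.Prime).ne_zero]
  refine (isReduced_iff_pow_one_lt p (Fact.out : p.Prime).one_lt).2 fun x hx => e.injective (Finsupp.ext fun b => hC.1 ?_)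
  change e x b ^ p = (e 0) b ^ p
  rw [← hcoef, hx, map_zero, Finsupp.zero_apply, Finsupp.zero_apply, zero_pow (Fact.out : p.Prime).ne_zero]

/-- Tensoring a projective resolution of a perfect algebra with a perfect algebra gives an exact complex. -/
theorem tensor_exists_boundary [Algebra A B] (hA : Function.Bijective fun a : A => a ^ p)
    (hB : Function.Bijective fun b : B => b ^ p) (hC : Function.Bijective fun c : C => c ^ p)
    (P : ℕ → Type u) [∀ i, AddCommGroup (P i)] [∀ i, Module A (P i)] [∀ i, Module.Projective A (P i)]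
    (d : ∀ i, P (i + 1) →ₗ[A] P i) (π : P 0 →ₗ[A] C) (hπ : Function.Surjective π)
    (hex : ∀ i, Function.Exact (d (i + 1)) (d i)) (hex0 : Function.Exact (d 0) π)
    (i : ℕ) (z : B ⊗[A] P (i + 1)) (hz : (d i).lTensor B z = 0) : ∃ u, (d (i + 1)).lTensor B u = z := by
  have : CharP (MonoidAlgebra A B) p := charP_of_injective_algebraMap (R := A) (A := MonoidAlgebra A B) (FaithfulSMul.algebraMap_injective A _) p
  have : PerfectRing (MonoidAlgebra A B) p := monoidAlgebra_perfect p A B hA hB
  obtain ⟨hred, hsurj⟩ := tensor_perfect p A B C hA hB hC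
  let R := MonoidAlgebra A B
  let φ : R →ₐ[A] B := MonoidAlgebra.lift A B B (MonoidHom.id B)
  have hφ : Function.Surjective φ := fun b => ⟨MonoidAlgebra.single b 1, by rw [MonoidAlgebra.lift_single, one_smul]; rfl⟩
  have hBred : IsReduced B := (isReduced_iff_pow_one_lt p (Fact.out : p.Prime).one_lt).2 fun b hb =>
    hB.1 (show b ^ p = 0 ^ p by rw [hb, zero_pow (Fact.out : p.Prime).ne_zero])
  have hJ : (RingHom.ker φ.toRingHom).IsRadical := (RingHom.ker_isRadical_iff_reduced_of_surjective hφ).2 hBred
  have hk : ∀ j (v : R ⊗[A] P j), φ.toLinearMap.rTensor (P j) v = 0 ↔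
      v ∈ ((RingHom.ker φ.toRingHom) • ⊤ : Submodule R (R ⊗[A] P j)) := by
    intro j v
    constructor
    · intro hv
      have hexq : Function.Exact (LinearMap.ker φ.toLinearMap).subtype φ.toLinearMap :=
        LinearMap.exact_subtype_ker_map _
      obtain ⟨w, rfl⟩ := (rTensor_exact (P j) hexq hφ v).1 hv
      clear hv
      induction w using TensorProduct.induction_on with
      | zero => simp
      | tmul r q =>
        rw [LinearMap.rTensor_tmul]
        have : ((r : R) ⊗ₜ[A] q) = (r : R) • ((1 : R) ⊗ₜ[A] q) := by rw [TensorProduct.smul_tmul', smul_eq_mul, mul_one]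
        change (r : R) ⊗ₜ[A] q ∈ _
        rw [this]
        exact Submodule.smul_mem_smul r.2 trivial
      | add a b ha hb => rw [map_add]; exact add_mem ha hb
    · intro hv
      induction hv using Submodule.smul_induction_on' with
      | smul r hr w _ =>
        induction w using TensorProduct.induction_on with
        | zero => simp
        | tmul s q =>
          rw [TensorProduct.smul_tmul', LinearMap.rTensor_tmul, smul_eq_mul]
          change φ (r * s) ⊗ₜ[A] q = 0
          rw [map_mul, show φ r = 0 from hr, zero_mul, zero_tmul]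
        | add a b ha hb => rw [smul_add, map_add, ha trivial, hb trivial, add_zero]
      | add a _ b _ ha hb =>
        rw [map_add, ha, hb, add_zero]
  have hcomp : ∀ j (v : R ⊗[A] P (j + 1)), φ.toLinearMap.rTensor (P j) ((d j).baseChange R v) =
      (d j).lTensor B (φ.toLinearMap.rTensor (P (j + 1)) v) := fun j v => by
    induction v using TensorProduct.induction_on with
    | zero => simp
    | tmul r q => rfl
    | add a b ha hb => simp [ha, hb]
  obtain ⟨z', rfl⟩ := φ.toLinearMap.rTensor_surjective (P (i + 1)) hφ z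
  have hb : ∀ j v, (d j).baseChange R v = (d j).lTensor R v := fun j v => rfl
  obtain ⟨u, hu⟩ := exists_boundary (R := R) p (Q := fun j => R ⊗[A] P j) (M := R ⊗[A] C)
    (fun j => (d j).baseChange R) (π.baseChange R)
    (fun j v => by
      change (d j).lTensor R ((d (j + 1)).lTensor R v) = 0
      rw [← LinearMap.comp_apply, ← LinearMap.lTensor_comp, (hex j).linearMap_comp_eq_zero, LinearMap.lTensor_zero,
        LinearMap.zero_apply])
    (π.lTensor_surjective R hπ)
    (fun j v hv => (Module.Flat.lTensor_exact R (hex j) v).1 hv)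
    (fun v hv => (Module.Flat.lTensor_exact R hex0 v).1 hv)
    (fun v => (Module.Flat.lTensor_exact R hex0).apply_apply_eq_zero v)
    (rootClosed_algebra p _ (by rw [← map_natCast (algebraMap A (R ⊗[A] C)) p, CharP.cast_eq_zero, map_zero])
      (monoidAlgebra_perfect p A B hA hB).bijective_frobenius.2 hsurj)
    _ hJ i z' ((hk i _).1 (by rw [hcomp, hz]))
  refine ⟨φ.toLinearMap.rTensor (P (i + 2)) u, ?_⟩
  rw [← hcomp]
  have h0 := (hk (i + 1) _).2 hu
  rw [map_sub, sub_eq_zero] at h0
  exact h0.symm

end Tensor

end Groth.Agent.H84PerfTor
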